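import Mathlib

/-!
# S3618, part A (`p ^ 2` does not divide `|K|`, `K` not 2-transitive): definitions (helper411)

Plan: `tools/plans/S3618_A.md`.
-/

set_option autoImplicit false

open Equiv Equiv.Perm MulAction

namespace Cfsg.Agent.H411.PrA

universe u v

/-- the 2-transitive case (lemma 2T) -/
def TwoT (p : ℕ) : Prop :=
  ∀ (Ω : Type u) [Fintype Ω] [DecidableEq Ω] (K : Subgroup (Perm Ω)), IsMultiplyPretransitive K Ω 2 →
    ∀ x ∈ K, orderOf x = p → ∀ q : ℕ, 2 ≤ q → q < p → x.support.card = q * p →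
      2 * (Fintype.card Ω - q * p + 1) ≤ 5 * q ∨ alternatingGroup Ω ≤ K

/-- the conclusion "pairs" -/
def Pairs (p q n : ℕ) (G : Type u) [Group G] : Prop :=
  ∃ c : ℕ, p ≤ c ∧ n = c.choose 2 ∧ 2 * q + p + 1 = 2 * c ∧
    (Nonempty (G ≃* alternatingGroup (Fin c)) ∨ Nonempty (G ≃* Perm (Fin c)))

/-- the theorem for primitive groups of degree `< N` whose order is not divisible by `p ^ 2` -/
def Claim (p N : ℕ) : Prop :=
  ∀ (Ω : Type u) [Fintype Ω] [DecidableEq Ω] (K : Subgroup (Perm Ω)), Fintype.card Ω < N → IsPreprimitive K Ω →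
    ¬ p ^ 2 ∣ Nat.card K → ∀ x ∈ K, orderOf x = p → ∀ q : ℕ, 2 ≤ q → q < p → x.support.card = q * p →
      5 * q < 2 * (Fintype.card Ω - q * p + 1) → Pairs p q (Fintype.card Ω) K

/-- the theorem for primitive groups -/
def PrimThm : Prop :=
  ∀ (Ω : Type u) [Fintype Ω] [DecidableEq Ω] (K : Subgroup (Perm Ω)), IsPreprimitive K Ω →
    ∀ p q : ℕ, p.Prime → 2 ≤ q → q < p → ∀ x ∈ K, orderOf x = p → x.support.card = q * p →
      2 * (Fintype.card Ω - q * p + 1) ≤ 5 * q ∨ alternatingGroup Ω ≤ K ∨ Pairs p q (Fintype.card Ω) K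

section

variable {Ω : Type u}

/-- the standing hypotheses of part A -/
structure Setup [Fintype Ω] [DecidableEq Ω] (p q : ℕ) (K : Subgroup (Perm Ω)) : Prop where
  prime : p.Prime
  two_le : 2 ≤ q
  lt : q < p
  prim : IsPreprimitive K Ω
  not2 : ¬ IsMultiplyPretransitive K Ω 2
  sylow : ¬ p ^ 2 ∣ Nat.card K
  supp : ∀ x ∈ K, orderOf x = p → x.support.card = q * p
  ex : ∃ x ∈ K, orderOf x = p
  fix : q * p < Fintype.card Ω

/-- the subgroup generated by the elements of order `p` in `K` which fix `a` -/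
def M (p : ℕ) (K : Subgroup (Perm Ω)) (a : Ω) : Subgroup (Perm Ω) :=
  Subgroup.closure {x | x ∈ K ∧ orderOf x = p ∧ x a = a}

open Classical in
/-- the orbit of `b` under `M p K a` -/
noncomputable def orb [Fintype Ω] (p : ℕ) (K : Subgroup (Perm Ω)) (a b : Ω) : Finset Ω :=
  Finset.univ.filter (fun c => ∃ m ∈ M p K a, m b = c)

/-- number of points of `O` moved by `x` -/
def mv [DecidableEq Ω] (x : Perm Ω) (O : Finset Ω) : ℕ := (O.filter (fun c => x c ≠ c)).card

/-- number of points of `O` fixed by `x` -/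
def fx [DecidableEq Ω] (x : Perm Ω) (O : Finset Ω) : ℕ := (O.filter (fun c => x c = c)).card

/-- `M p K a` is doubly transitive on `O` -/
def Two (p : ℕ) (K : Subgroup (Perm Ω)) (a : Ω) (O : Finset Ω) : Prop :=
  ∀ c ∈ O, ∀ d ∈ O, ∀ c' ∈ O, ∀ d' ∈ O, c ≠ d → c' ≠ d' → ∃ m ∈ M p K a, m c = c' ∧ m d = d'

/-- `b` is bad (for `a` and `φ`): the stabilizer of `b` in `M p K a` maps onto the alternating group -/
def Bad {p m : ℕ} {K : Subgroup (Perm Ω)} {a : Ω} (φ : M p K a →* alternatingGroup (Fin m)) (b : Ω) : Prop :=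
  ∀ s : alternatingGroup (Fin m), ∃ y : M p K a, (y : Perm Ω) b = b ∧ φ y = s

/-- `M p K a` modulo a normal subgroup is an alternating group of degree `p + u`, `3 ≤ u < p`, and `b` is a point which
is not bad and is fixed by an element of order `p`. -/
def AltType (p : ℕ) (K : Subgroup (Perm Ω)) (a : Ω) : Prop :=
  ∃ u : ℕ, 3 ≤ u ∧ u < p ∧ ∃ φ : M p K a →* alternatingGroup (Fin (p + u)), Function.Surjective φ ∧
    ∃ b : Ω, b ≠ a ∧ (∃ y ∈ K, orderOf y = p ∧ y a = a ∧ y b = b) ∧ ¬ Bad φ b ∧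
      (5 ≤ u ∨ ∃ i : Fin (p + u), ∀ y : M p K a, (y : Perm Ω) b = b → ((φ y : Perm (Fin (p + u))) i = i))

/-- some member of `XX` fixes `a` and `b` -/
def NF (XX : Set (Perm Ω)) (a b : Ω) : Prop := ∃ x ∈ XX, x a = a ∧ x b = b

/-- The combinatorial structure. `XX` will be the set of elements of order `p` of `K`. For each point `a` the members of `XX` fixing `a`
are mapped (by `P a`) onto the `p`-subsets of `{1, ..., m}`; for each `b ≠ a` fixed by one of them (`NF`) there is a subset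
`S a b` of size 1 or 2 of `{1, ..., m}` such that `x` (fixing `a`) fixes `b` iff `P a x` is disjoint from `S a b`; each singleton is
`S a b` for exactly `B` points `b`, each pair for exactly `ε` points. -/
structure Geo (p m B ε : ℕ) (XX : Set (Perm Ω)) where
  P : Ω → Perm Ω → Finset (Fin m)
  S : Ω → Ω → Finset (Fin m)
  card_P : ∀ a, ∀ x ∈ XX, x a = a → (P a x).card = p
  surj_P : ∀ (a : Ω) (T : Finset (Fin m)), T.card = p → ∃ x ∈ XX, x a = a ∧ P a x = T
  card_S : ∀ a b, a ≠ b → NF XX a b → 1 ≤ (S a b).card ∧ (S a b).card ≤ 2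
  fix_iff : ∀ a b, a ≠ b → NF XX a b → ∀ x ∈ XX, x a = a → (x b = b ↔ Disjoint (P a x) (S a b))
  card_B : ∀ a i, {b | a ≠ b ∧ NF XX a b ∧ S a b = {i}}.ncard = B
  card_ε : ∀ a i j, i ≠ j → {b | a ≠ b ∧ NF XX a b ∧ S a b = {i, j}}.ncard = ε

/-- collinear: `b ≠ a` and `S a b` is a singleton -/
def Geo.Near {p m B ε : ℕ} {XX : Set (Perm Ω)} (g : Geo p m B ε XX) (a b : Ω) : Prop :=
  a ≠ b ∧ NF XX a b ∧ (g.S a b).card = 1

/-- the graph of collinear points is connected -/
def Geo.Conn {p m B ε : ℕ} {XX : Set (Perm Ω)} (g : Geo p m B ε XX) : Prop :=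
  ∀ a b, Relation.ReflTransGen g.Near a b

end

end Cfsg.Agent.H411.PrA
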