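import Cfsg.Agent.H411.PrA.Orb

/-!
# S3618, part A: the type of an orbit of `M_a` (main lemma)
-/

set_option autoImplicit false
set_option linter.unusedSectionVars false
set_option maxHeartbeats 1000000

open Equiv Equiv.Perm MulAction
open Cfsg.Agent.H411.PrA.Blk

namespace Cfsg.Agent.H411.PrA.Orb

universe u v

variable {Ω : Type u} [Fintype Ω] [DecidableEq Ω] {p q : ℕ} {K : Subgroup (Perm Ω)}

theorem orbit_type (h : Setup p q K) (_h2T : TwoT.{u} p) (hIH : Claim.{u} p (Fintype.card Ω)) (a b : Ω) (hab : b ≠ a)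
    (x : Perm Ω) (hx : x ∈ K) (hxp : orderOf x = p) (hxa : x a = a) :
    AltType p K a ∨ ∃ κ : ℕ, 1 ≤ κ ∧ mv x (orb p K a b) = κ * p ∧
      (2 * fx x (orb p K a b) + 2 ≤ 5 * κ ∨ (κ = 1 ∧ fx x (orb p K a b) = 2 ∧ Two p K a (orb p K a b))) := by
  classical
  have hp := h.prime
  have hp3 : 3 ≤ p := lt_of_le_of_lt h.two_le h.lt
  have hp2 : p ≠ 2 := by omega
  have hodd : Odd p := hp.odd_of_ne_two hp2
  set g : M p K a := ⟨x, mem_M hx hxp hxa⟩ with hgdef
  have hgp : orderOf g = p := by rw [hgdef, Subgroup.orderOf_mk, hxp]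
  have hgpow : g ^ p = 1 := orderOf_dvd_iff_pow_eq_one.mp (by rw [hgp])
  -- the maximal subgroup
  have hSt : stabilizer (M p K a) b ≠ ⊤ := by
    intro htop
    obtain ⟨y, hy, hyp, hya, hyb⟩ := h.exists_move a b hab
    have : (⟨y, mem_M hy hyp hya⟩ : M p K a) ∈ stabilizer (M p K a) b := by rw [htop]; trivial
    exact hyb this
  obtain ⟨W, hWc, hW⟩ := (eq_top_or_exists_le_coatom (stabilizer (M p K a) b)).resolve_left hSt
  have hWt : W ≠ ⊤ := hWc.1
  -- the action on the cosets
  have hBnt : Nontrivial ((M p K a) ⧸ W) := by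
    by_contra hn
    rw [not_nontrivial_iff_subsingleton] at hn
    exact hWt (QuotientGroup.subgroup_eq_top_of_subsingleton W hn)
  letI : Fintype ((M p K a) ⧸ W) := Fintype.ofFinite _
  have hprimB : IsPreprimitive (M p K a) ((M p K a) ⧸ W) := by
    rw [← isCoatom_stabilizer_iff_preprimitive (M p K a) ((1 : M p K a) : (M p K a) ⧸ W), MulAction.stabilizer_quotient]
    exact hWc
  set ρ := MulAction.toPermHom (M p K a) ((M p K a) ⧸ W) with hρ
  have hρap : ∀ (y : M p K a) (β : (M p K a) ⧸ W), ρ y β = y • β := fun y β => rfl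
  have hprimL : IsPreprimitive ρ.range ((M p K a) ⧸ W) := by
    let f : ((M p K a) ⧸ W) →ₑ[ρ.rangeRestrict] ((M p K a) ⧸ W) := ⟨id, fun y β => rfl⟩
    exact IsPreprimitive.of_surjective (f := f) Function.surjective_id
  have hLcard : ¬ p ^ 2 ∣ Nat.card ρ.range := by
    intro hd
    exact h.sylow (hd.trans ((Subgroup.card_range_dvd ρ).trans (Subgroup.card_dvd_of_le (M_le a))))
  -- `g` moves a coset
  obtain ⟨β₁, hβ₁⟩ : ∃ β : (M p K a) ⧸ W, g • β ≠ β := by
    by_contra hno
    push Not at hno
    have htr := act_trivial h a (B := (M p K a) ⧸ W) g hgp hno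
    obtain ⟨β, γ, hβγ⟩ := hBnt
    obtain ⟨m, hm⟩ := exists_smul_eq (M p K a) β γ
    exact hβγ ((htr m β).symm.trans hm)
  have hρg : orderOf (ρ g) = p := by
    have h1 : orderOf (ρ g) ∣ p := by
      have h0 := orderOf_map_dvd ρ g
      rwa [hgp] at h0
    rcases (Nat.dvd_prime hp).mp h1 with h2 | h2
    · rw [orderOf_eq_one_iff] at h2
      exfalso
      apply hβ₁
      rw [← hρap, h2]
      rfl
    · exact h2
  -- the numbers
  have hmvle : ((ob (M p K a) b).filter (fun c => g • c ≠ c)).card ≤ q * p := by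
    rw [← h.supp x hx hxp]
    refine Finset.card_le_card ?_
    intro c hc
    rw [Finset.mem_filter] at hc
    rw [Equiv.Perm.mem_support]
    exact hc.2
  have hwle : ∀ β : (M p K a) ⧸ W, (fib b W β).card ≤ q := fun β => card_fib_lt hW hp hgpow hβ₁ hmvle β
  have hwlt : ∀ β : (M p K a) ⧸ W, (fib b W β).card < p := fun β => lt_of_le_of_lt (hwle β) h.lt
  set w := (fib b W β₁).card with hwdef
  have hwpos : 1 ≤ w := card_fib_pos hW β₁
  have hsupp : (ρ g).support = Finset.univ.filter (fun β : (M p K a) ⧸ W => g • β ≠ β) := by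
    ext β
    rw [Equiv.Perm.mem_support, Finset.mem_filter, hρap]
    simp
  obtain ⟨k, hk⟩ := dvd_support hp hρg
  have hk' : (ρ g).support.card = k * p := by rw [hk, mul_comm]
  have hmv : mv x (orb p K a b) = (k * w) * p := by
    have h1 := card_moved hW hp hgpow hwlt β₁
    rw [← hsupp, hk'] at h1
    have h2 : mv x (orb p K a b) = ((ob (M p K a) b).filter (fun c => g • c ≠ c)).card := by
      rw [mv, orb_eq_ob]
      rfl
    rw [h2, h1]
    ring
  set s := (Finset.univ.filter (fun β : (M p K a) ⧸ W => g • β = β)).card with hsdef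
  have hfx : fx x (orb p K a b) = w * s := by
    have h1 := card_fixed hW hp hgpow hwlt β₁
    have h2 : fx x (orb p K a b) = ((ob (M p K a) b).filter (fun c => g • c = c)).card := by
      rw [fx, orb_eq_ob]
      rfl
    rw [h2, h1]
  have hcardB : k * p + s = Fintype.card ((M p K a) ⧸ W) := by
    rw [← hk', hsupp, hsdef, add_comm]
    exact Finset.card_filter_add_card_filter_not (s := (Finset.univ : Finset ((M p K a) ⧸ W))) (fun β => g • β = β)
  have hkpos : 1 ≤ k := by
    by_contra hk0
    have : k = 0 := by omega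
    rw [this, Nat.zero_mul, Finset.card_eq_zero, Equiv.Perm.support_eq_empty_iff] at hk'
    rw [hk', orderOf_one] at hρg
    omega
  have hkw : k * w ≤ q := by
    have h1 : (k * w) * p ≤ q * p := by
      rw [← hmv, mv, orb_eq_ob]
      exact hmvle
    exact Nat.le_of_mul_le_mul_right h1 hp.pos
  have hkq : k ≤ q := le_trans (Nat.le_mul_of_pos_right k hwpos) hkw
  have hkp : k < p := lt_of_le_of_lt hkq h.lt
  -- degree
  have hdeg : Fintype.card ((M p K a) ⧸ W) < Fintype.card Ω := by
    have h1 : Fintype.card ((M p K a) ⧸ W) ≤ (ob (M p K a) b).card := by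
      have h2 : (Finset.univ : Finset ((M p K a) ⧸ W)) ⊆ (ob (M p K a) b).image (bl b W) := by
        intro β _
        obtain ⟨c, hc⟩ := fib_nonempty hW β
        rw [mem_fib] at hc
        exact Finset.mem_image.mpr ⟨c, hc⟩
      have h3 := Finset.card_le_card h2
      rw [Finset.card_univ] at h3
      exact h3.trans Finset.card_image_le
    have h4 : (ob (M p K a) b).card < Fintype.card Ω := by
      rw [← Finset.card_univ]
      refine Finset.card_lt_card ⟨Finset.subset_univ _, fun hsub => ?_⟩
      have ha := hsub (Finset.mem_univ a)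
      obtain ⟨m, hm⟩ := mem_ob.mp ha
      apply hab
      have h5 : m • a = a := M_fix m.2
      exact smul_left_cancel m (hm.trans h5.symm)
    omega
  -- the sign is trivial
  have hsign : ρ.range ≤ alternatingGroup ((M p K a) ⧸ W) := by
    rintro _ ⟨y, rfl⟩
    rw [Equiv.Perm.mem_alternatingGroup]
    have h1 := hom_trivial hodd a ((Equiv.Perm.sign (α := (M p K a) ⧸ W)).comp ρ)
    exact congrArg (fun f : M p K a →* ℤˣ => f y) h1
  -- a point in a fixed coset
  have hpt : ∀ β : (M p K a) ⧸ W, g • β = β → ∃ c, c ∈ ob (M p K a) b ∧ bl b W c = β ∧ c ≠ a ∧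
      (∃ y ∈ K, orderOf y = p ∧ y a = a ∧ y c = c) := by
    intro β hβ
    obtain ⟨c, hc⟩ := fib_nonempty hW β
    have hc' := mem_fib.mp hc
    refine ⟨c, hc'.1, hc'.2, ?_, x, hx, hxp, hxa, ?_⟩
    · intro hca
      obtain ⟨m, hm⟩ := mem_ob.mp hc'.1
      apply hab
      have h5 : m • a = a := M_fix m.2
      exact smul_left_cancel m ((hm.trans hca).trans h5.symm)
    · have h6 : g • c = c := by
        refine fix_of_card_lt hp hgpow (fib b W β) ?_ (hwlt β) hc
        intro t ht
        have := smul_mem_fib hW g ht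
        rwa [hβ] at this
      exact h6
  rcases Nat.lt_or_ge k 2 with hk2 | hk2
  · -- one cycle on the cosets
    obtain rfl : k = 1 := by omega
    rw [Nat.one_mul] at hk' hcardB hkw hmv
    have hcyc : (ρ g).IsCycle := by
      refine Equiv.Perm.isCycle_of_prime_order (by rw [hρg]; exact hp) ?_
      rw [hk', hρg]
      have := hp.pos
      omega
    rcases Nat.lt_or_ge s 2 with hs2 | hs2
    · -- s ≤ 1
      right
      refine ⟨w, hwpos, hmv, Or.inl ?_⟩
      rw [hfx]
      have : w * s ≤ w * 1 := Nat.mul_le_mul_left w (by omega)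
      omega
    rcases Nat.lt_or_ge s 3 with hs3 | hs3
    · -- s = 2
      have hs : s = 2 := by omega
      right
      refine ⟨w, hwpos, hmv, ?_⟩
      rw [hfx, hs]
      rcases Nat.lt_or_ge w 2 with hw2 | hw2
      · right
        have hw1 : w = 1 := by omega
        refine ⟨hw1, by rw [hw1], ?_⟩
        have h2tr : IsMultiplyPretransitive ρ.range ((M p K a) ⧸ W) 2 := by
          refine MulAction.IsPreprimitive.is_two_pretransitive hprimL
            (s := (((ρ g).support : Finset ((M p K a) ⧸ W)) : Set ((M p K a) ⧸ W))ᶜ) (n := 1) ?_ ?_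
            (Equiv.Perm.isPretransitive_of_isCycle_mem hcyc ⟨g, rfl⟩)
          · have h1 := Set.ncard_add_ncard_compl (((ρ g).support : Finset ((M p K a) ⧸ W)) : Set ((M p K a) ⧸ W))
            rw [Set.ncard_coe_finset, hk', Nat.card_eq_fintype_card, ← hcardB] at h1
            omega
          · rw [Nat.card_eq_fintype_card, ← hcardB]
            omega
        intro c hc d hd c' hc' d' hd' hcd hcd'
        rw [orb_eq_ob] at hc hd hc' hd'
        have hinj : ∀ e ∈ ob (M p K a) b, ∀ e' ∈ ob (M p K a) b, bl b W e = bl b W e' → e = e' := by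
          intro e he e' he' hee
          have h1 : (fib b W (bl b W e)).card = 1 := by rw [card_fib hW _ β₁, ← hwdef, hw1]
          obtain ⟨t, ht⟩ := Finset.card_eq_one.mp h1
          have h3 : e ∈ fib b W (bl b W e) := mem_fib.mpr ⟨he, rfl⟩
          have h4 : e' ∈ fib b W (bl b W e) := mem_fib.mpr ⟨he', hee.symm⟩
          rw [ht, Finset.mem_singleton] at h3 h4
          rw [h3, h4]
        obtain ⟨⟨_, ⟨y, rfl⟩⟩, hy1, hy2⟩ := (is_two_pretransitive_iff.mp h2tr)
          (fun h0 : bl b W c = bl b W d => hcd (hinj c hc d hd h0))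
          (fun h0 : bl b W c' = bl b W d' => hcd' (hinj c' hc' d' hd' h0))
        refine ⟨y, y.2, ?_, ?_⟩
        · refine hinj _ (smul_mem_ob y hc) _ hc' ?_
          have h5 : bl b W (y • c) = y • bl b W c := bl_equiv' hW y (mem_ob.mp hc)
          exact h5.trans hy1
        · refine hinj _ (smul_mem_ob y hd) _ hd' ?_
          have h5 : bl b W (y • d) = y • bl b W d := bl_equiv' hW y (mem_ob.mp hd)
          exact h5.trans hy2
      · left
        omega
    · -- s ≥ 3 : the alternating group
      left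
      have halt : alternatingGroup ((M p K a) ⧸ W) ≤ ρ.range :=
        S0713.result ρ.range hprimL hp (by omega) (by omega) hcyc hk' ⟨g, rfl⟩
      have hL : ρ.range = alternatingGroup ((M p K a) ⧸ W) := le_antisymm hsign halt
      have hsp : s < p := by
        by_contra hge
        exact hLcard (sq_dvd_card_of_alt hp hp2 halt (by omega))
      have he : Fintype.card ((M p K a) ⧸ W) = Fintype.card (Fin (p + s)) := by rw [Fintype.card_fin, ← hcardB]
      let e : ((M p K a) ⧸ W) ≃ Fin (p + s) := Fintype.equivOfCardEq he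
      let φ : M p K a →* alternatingGroup (Fin (p + s)) :=
        ((e.altCongrHom.toMonoidHom.comp (MulEquiv.subgroupCongr hL).toMonoidHom).comp ρ.rangeRestrict)
      have hφ : ∀ (y : M p K a) (i : Fin (p + s)), ((φ y : alternatingGroup (Fin (p + s))) : Perm (Fin (p + s))) i =
          e (y • e.symm i) := by
        intro y i
        rfl
      have hφs : Function.Surjective φ := by
        intro t
        obtain ⟨z, hz⟩ := ρ.rangeRestrict_surjective ((MulEquiv.subgroupCongr hL).symm (e.altCongrHom.symm t))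
        refine ⟨z, ?_⟩
        change e.altCongrHom ((MulEquiv.subgroupCongr hL) (ρ.rangeRestrict z)) = t
        rw [hz, MulEquiv.apply_symm_apply, MulEquiv.apply_symm_apply]
      obtain ⟨β, hβ⟩ : ∃ β : (M p K a) ⧸ W, g • β = β := by
        have : 0 < s := by omega
        rw [hsdef, Finset.card_pos] at this
        obtain ⟨β, hβ⟩ := this
        exact ⟨β, (Finset.mem_filter.mp hβ).2⟩
      obtain ⟨c, hc, hcβ, hca, hcy⟩ := hpt β hβ
      refine ⟨s, hs3, hsp, φ, hφs, c, hca, hcy, ?_, Or.inr ⟨e β, ?_⟩⟩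
      · refine not_bad h hW hWt φ ?_ hc
        intro y z hyz γ
        have h1 := congrArg (fun t : alternatingGroup (Fin (p + s)) => (t : Perm (Fin (p + s))) (e γ)) hyz
        simp only [hφ, Equiv.symm_apply_apply] at h1
        exact e.injective h1
      · intro y hy
        rw [hφ, Equiv.symm_apply_apply]
        congr 1
        rw [← hcβ, ← bl_equiv' hW y (mem_ob.mp hc)]
        exact congrArg _ hy
  · -- at least two cycles on the cosets
    by_cases h5 : 5 * k < 2 * (s + 1)
    · left
      have hsB : s = Fintype.card ((M p K a) ⧸ W) - k * p := by omega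
      obtain ⟨c, hpc, hcc, hck, hiso⟩ := hIH ((M p K a) ⧸ W) ρ.range hdeg hprimL hLcard (ρ g) ⟨g, rfl⟩ hρg k hk2 hkp hk'
        (by rw [← hsB]; exact h5)
      obtain ⟨u, rfl⟩ := Nat.exists_eq_add_of_le hpc
      obtain ⟨hu5, hup, hs1⟩ := arith_pairs hck hkp (hcardB.trans hcc) h5 hk2
      have hiso' : Nonempty (ρ.range ≃* alternatingGroup (Fin (p + u))) := by
        rcases hiso with hi | ⟨⟨i⟩⟩
        · exact hi
        · exfalso
          have h1 := hom_trivial hodd a ((Equiv.Perm.sign (α := Fin (p + u))).comp (i.toMonoidHom.comp ρ.rangeRestrict))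
          have hnt : Nontrivial (Fin (p + u)) := Fin.nontrivial_iff_two_le.mpr (by omega)
          obtain ⟨t, ht⟩ := Equiv.Perm.sign_surjective (Fin (p + u)) (-1)
          obtain ⟨z, hz⟩ := ρ.rangeRestrict_surjective (i.symm t)
          have h2 := congrArg (fun f : M p K a →* ℤˣ => f z) h1
          have h3 : Equiv.Perm.sign (i (ρ.rangeRestrict z)) = 1 := h2
          rw [hz, MulEquiv.apply_symm_apply, ht] at h3
          exact absurd h3 (by decide)
      obtain ⟨i⟩ := hiso'
      let φ : M p K a →* alternatingGroup (Fin (p + u)) := i.toMonoidHom.comp ρ.rangeRestrict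
      have hφs : Function.Surjective φ := by
        intro t
        obtain ⟨z, hz⟩ := ρ.rangeRestrict_surjective (i.symm t)
        refine ⟨z, ?_⟩
        change i (ρ.rangeRestrict z) = t
        rw [hz, MulEquiv.apply_symm_apply]
      obtain ⟨β, hβ⟩ : ∃ β : (M p K a) ⧸ W, g • β = β := by
        have : 0 < s := by omega
        rw [hsdef, Finset.card_pos] at this
        obtain ⟨β, hβ⟩ := this
        exact ⟨β, (Finset.mem_filter.mp hβ).2⟩
      obtain ⟨c, hc, hcβ, hca, hcy⟩ := hpt β hβ
      refine ⟨u, by omega, hup, φ, hφs, c, hca, hcy, ?_, Or.inl hu5⟩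
      refine not_bad h hW hWt φ ?_ hc
      intro y z hyz γ
      have h1 : ρ.rangeRestrict y = ρ.rangeRestrict z := i.injective hyz
      have h2 : ρ y = ρ z := congrArg Subtype.val h1
      rw [← hρap, ← hρap, h2]
    · right
      refine ⟨k * w, Nat.mul_pos hkpos hwpos, hmv, Or.inl ?_⟩
      rw [hfx]
      have h1 : w * (2 * (s + 1)) ≤ w * (5 * k) := Nat.mul_le_mul_left w (by omega)
      nlinarith

end Cfsg.Agent.H411.PrA.Orb
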