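import Cfsg.Agent.H411.PrA.Basic
import Cfsg.Agent.H411.PrA.OrbType
import Cfsg.Agent.H29.PrA.Cliq
import Cfsg.Agent.H738.PrA.FinalPairs
import Cfsg.Agent.H976.PrA.ExistsGeo
import Cfsg.Agent.H273.PrA.NoBad
import Cfsg.Agent.H426.FC.Main
import Cfsg.Agent.H405.PrA.Num
import Cfsg.Agent.H805.PrA.PF
import Cfsg.Agent.H35.PrA.Rank3
import Cfsg.Agent.H903.GeoCase
import Cfsg.Agent.H405.PrA.GeoB

/-!
# S3618: assembly
-/

set_option autoImplicit false

open Equiv Equiv.Perm MulAction

namespace Cfsg.Agent.H411.PrA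

universe u v

section

variable {Ω : Type u} [Fintype Ω] [DecidableEq Ω]

/-- all elements of order `p` have the same number of moved points -/
theorem card_support_eq {p : ℕ} (hp : p.Prime) {K : Subgroup (Perm Ω)} (hpp : ¬ p ^ 2 ∣ Nat.card K) {x y : Perm Ω}
    (hx : x ∈ K) (hy : y ∈ K) (hxp : orderOf x = p) (hyp : orderOf y = p) : y.support.card ≤ x.support.card := by
  obtain ⟨k, hk⟩ := conj_of_sylow hp hpp (⟨y, hy⟩ : K) ⟨x, hx⟩ (by rw [Subgroup.orderOf_mk, hyp])
    (by rw [Subgroup.orderOf_mk, hxp])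
  obtain ⟨n, hn⟩ := Subgroup.mem_zpowers_iff.mp hk
  have h1 : (x ^ n : Perm Ω) = (k : Perm Ω) * y * (k : Perm Ω)⁻¹ := by
    have := congrArg (Subtype.val : K → Perm Ω) hn
    simpa using this
  have h2 : ((k : Perm Ω) * y * (k : Perm Ω)⁻¹).support.card = y.support.card := by
    rw [Equiv.Perm.card_support_conj]
  rw [← h2, ← h1]
  exact Finset.card_le_card (Equiv.Perm.support_zpow_le x n)

theorem sq_dvd_card_of_alt {p : ℕ} (hp : p.Prime) (hp2 : p ≠ 2) {K : Subgroup (Perm Ω)} (hA : alternatingGroup Ω ≤ K)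
    (hn : 2 * p ≤ Fintype.card Ω) : p ^ 2 ∣ Nat.card K := by
  have h1 : p ^ 2 ∣ (Fintype.card Ω).factorial := by
    have h3 : p ∣ p.factorial := Nat.dvd_factorial hp.pos le_rfl
    have h4 : p.factorial * p.factorial ∣ (p + p).factorial := Nat.factorial_mul_factorial_dvd_factorial_add p p
    have h5 : (p + p).factorial ∣ (Fintype.card Ω).factorial := Nat.factorial_dvd_factorial (by omega)
    rw [pow_two]
    exact ((mul_dvd_mul h3 h3).trans h4).trans h5
  have hne : Nontrivial Ω := by
    rw [← Fintype.one_lt_card_iff_nontrivial]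
    have := hp.two_le
    omega
  have h2 : 2 * Nat.card (alternatingGroup Ω) = (Fintype.card Ω).factorial := by
    rw [two_mul_nat_card_alternatingGroup, Nat.card_perm, Nat.card_eq_fintype_card]
  have h3 : p ^ 2 ∣ Nat.card (alternatingGroup Ω) := by
    rw [← h2] at h1
    refine Nat.Coprime.dvd_of_dvd_mul_left ?_ h1
    exact Nat.Coprime.pow_left 2 ((Nat.coprime_primes hp Nat.prime_two).mpr hp2)
  exact h3.trans (Subgroup.card_dvd_of_le hA)

end

/-- **Theorem A** -/
theorem claim {p : ℕ} (hp : p.Prime) (h2T : TwoT.{u} p) : ∀ N : ℕ, Claim.{u} p N := by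
  intro N
  induction N with
  | zero =>
    intro Ω _ _ K h0
    omega
  | succ N ih =>
    intro Ω _ _ K hN hprim hpp x hx hxp q hq2 hqp hs he
    rcases Nat.lt_or_ge (Fintype.card Ω) N with hlt | hge
    · exact ih Ω K hlt hprim hpp x hx hxp q hq2 hqp hs he
    have hcard : Fintype.card Ω = N := by omega
    have ih' : Claim.{u} p (Fintype.card Ω) := hcard ▸ ih
    have hp2 : p ≠ 2 := by omega
    have hp3 : 3 ≤ p := by omega
    have hfix : q * p < Fintype.card Ω := by omega
    have h2p : 2 * p ≤ q * p := Nat.mul_le_mul_right p hq2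
    have hn2 : ¬ IsMultiplyPretransitive K Ω 2 := by
      intro h2
      rcases h2T Ω K h2 x hx hxp q hq2 hqp hs with h | h
      · omega
      · exact hpp (sq_dvd_card_of_alt hp hp2 h (by omega))
    have hset : Setup p q K := by
      refine ⟨hp, hq2, hqp, hprim, hn2, hpp, ?_, ⟨x, hx, hxp⟩, hfix⟩
      intro y hy hyp
      rw [← hs]
      exact le_antisymm (card_support_eq hp hpp hx hy hxp hyp) (card_support_eq hp hpp hy hx hyp hxp)
    obtain ⟨a, ha⟩ : ∃ a : Ω, x a = a := by
      by_contra hno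
      push Not at hno
      have h1 : x.support = Finset.univ := by
        ext c
        simp [hno c]
      rw [h1, Finset.card_univ] at hs
      omega
    have hNe : Nonempty Ω := ⟨a⟩
    by_cases hA : AltType p K a
    · obtain ⟨u, B, ε, hu3, hup, hε, hB, ⟨g⟩⟩ := Cfsg.Agent.H976.PrA.exists_geo_of_noBad hset
        (fun a' _ h3 h4 φ hφ hg b' h6 h7 => Cfsg.Agent.H273.PrA.no_bad hset a' h3 h4 φ hφ hg b' h6 h7) a hA
      have hm : p + 3 ≤ p + u := by omega
      have hinv : ∀ k ∈ K, ∀ y ∈ {y : Perm Ω | y ∈ K ∧ orderOf y = p}, k * y * k⁻¹ ∈ {y : Perm Ω | y ∈ K ∧ orderOf y = p} := by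
        rintro k hk y ⟨hy, hyp⟩
        refine ⟨K.mul_mem (K.mul_mem hk hy) (K.inv_mem hk), ?_⟩
        rw [← hyp]
        exact (MulAut.conj k).orderOf_eq y
      rcases Nat.eq_zero_or_pos B with rfl | hB1
      · rcases hB with hB | ⟨rfl, hu5⟩
        · omega
        · exact (Cfsg.Agent.H903.GeoCase.Task.Geo.case01 g (by omega) hp3).elim
      · have hconn : g.Conn := Cfsg.Agent.H405.PrA.conn g hm hp3 hB1 K hprim hinv
        have hBle := Cfsg.Agent.H405.PrA.B_le g hm hp3 hB1
        rcases Nat.le_one_iff_eq_zero_or_eq_one.mp hε with rfl | rfl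
        · have : B = 1 := by omega
          subst this
          have h1 := Cfsg.Agent.H405.PrA.case10 g hm hp3 hconn
          rw [Nat.card_eq_fintype_card] at h1
          omega
        · have hB12 : B = 1 ∨ B = 2 := by omega
          rcases hB12 with rfl | rfl
          · exact (Cfsg.Agent.H903.GeoCase.Task.Geo.case11 g hm hp3 hconn).elim
          · obtain ⟨CC, h1, h2, h3, h4, h5, h6⟩ := Cfsg.Agent.H29.PrA.case21 g hm hp3 hconn
            refine Cfsg.Agent.H738.PrA.final_pairs hp hp2 hm K hprim CC h1 h2 h3 h4 ?_ x hx hxp hs a ha ?_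
            · intro k hk
              refine h5 k ?_
              intro y
              constructor
              · exact hinv k hk y
              · intro hy
                have := hinv k⁻¹ (K.inv_mem hk) _ hy
                have he' : k⁻¹ * (k * y * k⁻¹) * k⁻¹⁻¹ = y := by group
                rwa [he'] at this
            · exact fun C hC haC => h6 x ⟨hx, hxp⟩ a ha C hC haC
    · exfalso
      refine Cfsg.Agent.H405.PrA.numeric_of hset he a x hx hxp ha ?_ ?_ ?_
      · intro h1 h2 h3 b hb hf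
        exact Cfsg.Agent.H805.PrA.prime_fix hset h1 h2 h3 a b hb x hx hxp ha hf
      · intro b₁ b₂ h1 h2 h3 h4 h5 h6 h7 h8
        exact Cfsg.Agent.H35.PrA.rank3_of (fun H hH y hy hyp b hb k hk hkb => hset.exists_normalizer H hH y hy hyp b hb k hk hkb)
          hset a b₁ b₂ h1 h2 x hx hxp ha h3 h4 h5 h6 h7 h8
      · intro b hb
        exact (Orb.orbit_type hset h2T ih' a b hb x hx hxp ha).resolve_left hA

/-- `TwoTrans` of helper426 from `TwoT` -/
theorem twoTrans_of_twoT {p : ℕ} (hp : p.Prime) (h2T : TwoT.{u} p) : Cfsg.Agent.H426.FC.TwoTrans.{u} p := by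
  intro Ω _ _ K hK x hx hxp h2p hlt hle
  have hdvd : p ∣ x.support.card := by
    have h1 : ∀ n ∈ x.cycleType, n = p := by
      intro n hn
      have h2 : n ∣ orderOf x := Equiv.Perm.dvd_of_mem_cycleType hn
      rw [hxp] at h2
      rcases (Nat.dvd_prime hp).mp h2 with h3 | h3
      · have := Equiv.Perm.two_le_of_mem_cycleType hn
        omega
      · exact h3
    rw [← Equiv.Perm.sum_cycleType]
    exact Multiset.dvd_sum fun n hn => (h1 n hn) ▸ dvd_rfl
  obtain ⟨q, hq⟩ := hdvd
  have hpos := hp.pos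
  have hq2 : 2 ≤ q := by
    by_contra h
    have : q ≤ 1 := by omega
    have : p * q ≤ p * 1 := Nat.mul_le_mul_left p this
    omega
  have hqp : q < p := by
    by_contra h
    have h3 : p * p ≤ p * q := Nat.mul_le_mul_left p (by omega)
    rw [pow_two] at hlt
    omega
  have hs : x.support.card = q * p := by rw [hq, mul_comm]
  rcases h2T Ω K hK x hx hxp q hq2 hqp hs with h | h
  · exfalso
    have h4 : 3 * q ≤ q * p := by rw [mul_comm 3 q]; exact Nat.mul_le_mul_left q (by omega)
    omega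
  · exact h

theorem primThm (h2T : ∀ p : ℕ, p.Prime → TwoT.{u} p) : PrimThm.{u} := by
  intro Ω _ _ K hK p q hp hq2 hqp x hx hxp hs
  by_cases h2 : IsMultiplyPretransitive K Ω 2
  · rcases h2T p hp Ω K h2 x hx hxp q hq2 hqp hs with h | h
    · exact Or.inl h
    · exact Or.inr (Or.inl h)
  by_cases he : 2 * (Fintype.card Ω - q * p + 1) ≤ 5 * q
  · exact Or.inl he
  refine Or.inr (Or.inr ?_)
  have : Fact p.Prime := ⟨hp⟩
  have hpp : ¬ p ^ 2 ∣ Nat.card K := by
    refine Cfsg.Agent.H426.FC.thmB (twoTrans_of_twoT hp (h2T p hp)) Ω K hK h2 x hx hxp ?_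
    rw [hs, pow_two]
    exact Nat.mul_lt_mul_of_pos_right hqp hp.pos
  exact claim hp (h2T p hp) (Fintype.card Ω + 1) Ω K (Nat.lt_succ_self _) hK hpp x hx hxp q hq2 hqp hs (by omega)

end Cfsg.Agent.H411.PrA
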