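import Cfsg.Agent.H411.PrA.Defs
import Cfsg.Agent.H273.FC.Conn

/-!
# S3618, part A: basic facts (Sylow)
-/

set_option autoImplicit false

open Equiv Equiv.Perm MulAction
open scoped Pointwise

namespace Cfsg.Agent.H411.PrA

universe u

section gen

/-- in a finite group whose order is not divisible by `p ^ 2`, elements of order `p` generate conjugate subgroups -/
theorem conj_of_sylow {G : Type u} [Group G] [Finite G] {p : ℕ} (hp : p.Prime) (hG : ¬ p ^ 2 ∣ Nat.card G) (x y : G)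
    (hx : orderOf x = p) (hy : orderOf y = p) : ∃ k : G, k * x * k⁻¹ ∈ Subgroup.zpowers y := by
  have : Fact p.Prime := ⟨hp⟩
  have hfac : (Nat.card G).factorization p = 1 := by
    have h1 : p ∣ Nat.card G := hx ▸ orderOf_dvd_natCard x
    have h2 : 1 ≤ (Nat.card G).factorization p := (hp.dvd_iff_one_le_factorization Nat.card_pos.ne').mp h1
    have h3 : ¬ 2 ≤ (Nat.card G).factorization p := fun h =>
      hG ((hp.pow_dvd_iff_le_factorization Nat.card_pos.ne').mpr h)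
    omega
  have hcx : Nat.card (Subgroup.zpowers x) = p ^ (Nat.card G).factorization p := by
    rw [hfac, pow_one, Nat.card_zpowers, hx]
  have hcy : Nat.card (Subgroup.zpowers y) = p ^ (Nat.card G).factorization p := by
    rw [hfac, pow_one, Nat.card_zpowers, hy]
  obtain ⟨k, hk⟩ := MulAction.exists_smul_eq G (Sylow.ofCard _ hcx) (Sylow.ofCard _ hcy)
  refine ⟨k, ?_⟩
  have h4 : ((k • Sylow.ofCard _ hcx : Sylow p G) : Subgroup G) = Subgroup.zpowers y := by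
    rw [hk]; rfl
  rw [← h4, Sylow.coe_subgroup_smul]
  exact Subgroup.smul_mem_pointwise_smul x (MulAut.conj k) _ (Subgroup.mem_zpowers x)

end gen

variable {Ω : Type u}

theorem M_le {p : ℕ} {K : Subgroup (Perm Ω)} (a : Ω) : M p K a ≤ K :=
  (Subgroup.closure_le _).mpr fun _ hx => hx.1

theorem mem_M {p : ℕ} {K : Subgroup (Perm Ω)} {a : Ω} {x : Perm Ω} (hx : x ∈ K) (hxp : orderOf x = p) (hxa : x a = a) :
    x ∈ M p K a := Subgroup.subset_closure ⟨hx, hxp, hxa⟩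

theorem M_fix {p : ℕ} {K : Subgroup (Perm Ω)} {a : Ω} {x : Perm Ω} (hx : x ∈ M p K a) : x a = a := by
  have : M p K a ≤ MulAction.stabilizer (Perm Ω) a := (Subgroup.closure_le _).mpr fun y hy => hy.2.2
  exact this hx

/-- `M_(ka) = k M_a k⁻¹` -/
theorem conj_mem_M {p : ℕ} {K : Subgroup (Perm Ω)} {a : Ω} {k x : Perm Ω} (hk : k ∈ K) (hx : x ∈ M p K a) :
    k * x * k⁻¹ ∈ M p K (k a) := by
  have h1 : M p K a ≤ (M p K (k a)).comap (MulAut.conj k).toMonoidHom := by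
    refine (Subgroup.closure_le _).mpr ?_
    rintro y ⟨hy, hyp, hya⟩
    change k * y * k⁻¹ ∈ M p K (k a)
    refine mem_M (K.mul_mem (K.mul_mem hk hy) (K.inv_mem hk)) ?_ ?_
    · rw [← hyp]
      exact (MulAut.conj k).orderOf_eq y
    · simp [hya]
  exact h1 hx

variable [Fintype Ω] [DecidableEq Ω] {p q : ℕ} {K : Subgroup (Perm Ω)}

/-- Sylow: two elements of order `p` of a subgroup `H ≤ K` generate conjugate subgroups in `H` -/
theorem Setup.conj (h : Setup p q K) (H : Subgroup (Perm Ω)) (hH : H ≤ K) (x y : Perm Ω) (hx : x ∈ H) (hy : y ∈ H)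
    (hxp : orderOf x = p) (hyp : orderOf y = p) : ∃ k ∈ H, k * x * k⁻¹ ∈ Subgroup.zpowers y := by
  have hc : ¬ p ^ 2 ∣ Nat.card H := fun hd => h.sylow (hd.trans (Subgroup.card_dvd_of_le hH))
  obtain ⟨k, hk⟩ := conj_of_sylow h.prime hc (⟨x, hx⟩ : H) ⟨y, hy⟩ (by rw [Subgroup.orderOf_mk, hxp])
    (by rw [Subgroup.orderOf_mk, hyp])
  refine ⟨k, k.2, ?_⟩
  obtain ⟨n, hn⟩ := Subgroup.mem_zpowers_iff.mp hk
  rw [Subgroup.mem_zpowers_iff]
  refine ⟨n, ?_⟩
  have := congrArg (Subtype.val : H → Perm Ω) hn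
  simpa using this

/-- `fix(M_a) = {a}` -/
theorem Setup.exists_move (h : Setup p q K) (a b : Ω) (hab : b ≠ a) : ∃ x ∈ K, orderOf x = p ∧ x a = a ∧ x b ≠ b := by
  have hF : Cfsg.Agent.H426.FC.Fam K {x : Perm Ω | x ∈ K ∧ orderOf x = p} (q * p) := by
    refine ⟨fun x hx => hx.1, ?_, ?_, fun x hx => h.supp x hx.1 hx.2, ?_, h.fix⟩
    · rintro k hk x ⟨hx, hxp⟩
      refine ⟨K.mul_mem (K.mul_mem hk hx) (K.inv_mem hk), ?_⟩
      rw [← hxp]
      exact (MulAut.conj k).orderOf_eq x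
    · obtain ⟨x, hx, hxp⟩ := h.ex
      exact ⟨x, hx, hxp⟩
    · have h1 := h.two_le
      have h2 := h.prime.two_le
      nlinarith
  obtain ⟨x, ⟨hx, hxp⟩, hxa, hxb⟩ := Cfsg.Agent.H273.FC.exists_fix_move K h.prim _ _ hF a b hab.symm
  exact ⟨x, hx, hxp, hxa, hxb⟩

/-- every element of order `p` fixing `a` acts non-trivially on every `M_a`-orbit other than `{a}` -/
theorem Setup.exists_orbit_move (h : Setup p q K) (a b : Ω) (hab : b ≠ a) (x : Perm Ω) (hx : x ∈ K) (hxp : orderOf x = p)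
    (hxa : x a = a) : ∃ m ∈ M p K a, x (m b) ≠ m b := by
  obtain ⟨y, hy, hyp, hya, hyb⟩ := h.exists_move a b hab
  obtain ⟨k, hk, hkz⟩ := h.conj (M p K a) (M_le a) y x (mem_M hy hyp hya) (mem_M hx hxp hxa) hyp hxp
  refine ⟨k, hk, fun hfix => hyb ?_⟩
  have h1 : Subgroup.zpowers x ≤ MulAction.stabilizer (Perm Ω) (k b) := by
    rw [Subgroup.zpowers_le]
    exact hfix
  have h2 : (k * y * k⁻¹) (k b) = k b := h1 hkz
  have h3 : k (y b) = k b := by simpa using h2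
  exact k.injective h3

/-- `N_H(<x>)` is transitive on the points fixed by `x` in an `H`-orbit -/
theorem Setup.exists_normalizer (h : Setup p q K) (H : Subgroup (Perm Ω)) (hH : H ≤ K) (x : Perm Ω) (hx : x ∈ H)
    (hxp : orderOf x = p) (b : Ω) (hb : x b = b) (k : Perm Ω) (hk : k ∈ H) (hkb : x (k b) = k b) :
    ∃ n ∈ H, n b = k b ∧ n * x * n⁻¹ ∈ Subgroup.zpowers x := by
  have h1 : k * x * k⁻¹ ∈ H ⊓ MulAction.stabilizer (Perm Ω) (k b) :=
    ⟨H.mul_mem (H.mul_mem hk hx) (H.inv_mem hk), by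
      change (k * x * k⁻¹) (k b) = k b
      simp [hb]⟩
  have h2 : x ∈ H ⊓ MulAction.stabilizer (Perm Ω) (k b) := ⟨hx, hkb⟩
  obtain ⟨l, ⟨hl, hlb⟩, hlz⟩ := h.conj _ (inf_le_left.trans hH) _ _ h1 h2
    (by rw [← hxp]; exact (MulAut.conj k).orderOf_eq x) hxp
  refine ⟨l * k, H.mul_mem hl hk, ?_, ?_⟩
  · exact hlb
  · have : l * k * x * (l * k)⁻¹ = l * (k * x * k⁻¹) * l⁻¹ := by group
    rw [this]
    exact hlz

end Cfsg.Agent.H411.PrA
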