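import Mathlib

/-!
# S3618, part A: the action on the cosets of a subgroup containing the stabilizer of a point
-/

set_option autoImplicit false
set_option linter.unusedSectionVars false

open MulAction

namespace Cfsg.Agent.H411.PrA.Blk

universe u v

section

variable {G : Type u} [Group G] {Ω : Type v} [MulAction G Ω]

open Classical in
/-- the coset belonging to a point of the orbit of `b` -/
noncomputable def bl (b : Ω) (W : Subgroup G) (c : Ω) : G ⧸ W :=
  if h : ∃ m : G, m • b = c then (QuotientGroup.mk h.choose : G ⧸ W) else QuotientGroup.mk 1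

theorem bl_smul {b : Ω} {W : Subgroup G} (hW : stabilizer G b ≤ W) (m : G) : bl b W (m • b) = (QuotientGroup.mk m : G ⧸ W) := by
  have h : ∃ m' : G, m' • b = m • b := ⟨m, rfl⟩
  have key : ∀ m' : G, m' • b = m • b → m'⁻¹ * m ∈ W := by
    intro m' hm'
    apply hW
    rw [mem_stabilizer_iff, mul_smul, ← hm', inv_smul_smul]
  rw [bl, dif_pos h, QuotientGroup.eq]
  exact key _ h.choose_spec

theorem bl_equiv {b : Ω} {W : Subgroup G} (hW : stabilizer G b ≤ W) (g m : G) :
    bl b W (g • (m • b)) = g • bl b W (m • b) := by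
  rw [← mul_smul, bl_smul hW, bl_smul hW]
  rfl

theorem bl_equiv' {b : Ω} {W : Subgroup G} (hW : stabilizer G b ≤ W) (g : G) {c : Ω} (hc : ∃ m : G, m • b = c) :
    bl b W (g • c) = g • bl b W c := by
  obtain ⟨m, rfl⟩ := hc
  exact bl_equiv hW g m

variable [Fintype Ω] [DecidableEq Ω]

open Classical in
/-- the orbit -/
noncomputable def ob (G : Type u) [Group G] [MulAction G Ω] (b : Ω) : Finset Ω :=
  Finset.univ.filter (fun c => ∃ m : G, m • b = c)

theorem mem_ob {b c : Ω} : c ∈ ob G b ↔ ∃ m : G, m • b = c := by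
  simp [ob]

theorem smul_mem_ob {b c : Ω} (g : G) (hc : c ∈ ob G b) : g • c ∈ ob G b := by
  obtain ⟨m, rfl⟩ := mem_ob.mp hc
  exact mem_ob.mpr ⟨g * m, mul_smul g m b⟩

open Classical in
/-- the fibre -/
noncomputable def fib (b : Ω) (W : Subgroup G) (β : G ⧸ W) : Finset Ω := (ob G b).filter (fun c => bl b W c = β)

theorem mem_fib {b : Ω} {W : Subgroup G} {β : G ⧸ W} {c : Ω} : c ∈ fib b W β ↔ c ∈ ob G b ∧ bl b W c = β := by
  simp [fib]

theorem smul_mem_fib {b : Ω} {W : Subgroup G} (hW : stabilizer G b ≤ W) {β : G ⧸ W} {c : Ω} (g : G) (hc : c ∈ fib b W β) :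
    g • c ∈ fib b W (g • β) := by
  rw [mem_fib] at hc ⊢
  refine ⟨smul_mem_ob g hc.1, ?_⟩
  rw [bl_equiv' hW g (mem_ob.mp hc.1), hc.2]

theorem card_fib_le {b : Ω} {W : Subgroup G} (hW : stabilizer G b ≤ W) (β : G ⧸ W) (g : G) :
    (fib b W β).card ≤ (fib b W (g • β)).card := by
  refine Finset.card_le_card_of_injOn (fun c => g • c) (fun c hc => smul_mem_fib hW g hc) ?_
  intro c _ d _ h
  exact smul_left_cancel g h

theorem card_fib {b : Ω} {W : Subgroup G} (hW : stabilizer G b ≤ W) (β γ : G ⧸ W) :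
    (fib b W β).card = (fib b W γ).card := by
  obtain ⟨g, rfl⟩ := exists_smul_eq G β γ
  refine le_antisymm (card_fib_le hW β g) ?_
  have := card_fib_le hW (g • β) g⁻¹
  rwa [inv_smul_smul] at this

theorem fib_nonempty {b : Ω} {W : Subgroup G} (hW : stabilizer G b ≤ W) (β : G ⧸ W) : (fib b W β).Nonempty := by
  obtain ⟨m, rfl⟩ := QuotientGroup.mk_surjective β
  exact ⟨m • b, mem_fib.mpr ⟨mem_ob.mpr ⟨m, rfl⟩, bl_smul hW m⟩⟩

theorem card_fib_pos {b : Ω} {W : Subgroup G} (hW : stabilizer G b ≤ W) (β : G ⧸ W) : 0 < (fib b W β).card :=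
  (fib_nonempty hW β).card_pos

/-- powers of an element of prime order move a point to different points -/
theorem pow_inj {X : Type*} [MulAction G X] {p : ℕ} (hp : p.Prime) {g : G} (hg : g ^ p = 1) {t : X} (ht : g • t ≠ t) :
    ∀ i < p, ∀ j < p, g ^ i • t = g ^ j • t → i = j := by
  intro i hi j hj hij
  have hper : Function.minimalPeriod (g • ·) t = p := by
    have h1 : Function.IsPeriodicPt (g • ·) p t := by
      change (g • ·)^[p] t = t
      rw [smul_iterate, hg]
      exact one_smul G t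
    rcases (Nat.dvd_prime hp).1 h1.minimalPeriod_dvd with h | h
    · exact absurd (Function.minimalPeriod_eq_one_iff_isFixedPt.1 h) ht
    · exact h
  have h2 := Function.iterate_injOn_Iio_minimalPeriod (f := (g • ·)) (x := t)
  rw [hper] at h2
  refine h2 (Set.mem_Iio.mpr hi) (Set.mem_Iio.mpr hj) ?_
  simpa [smul_iterate] using hij

/-- an element of prime order acting on an invariant set with less than `p` points acts trivially -/
theorem fix_of_card_lt {X : Type*} [DecidableEq X] [MulAction G X] {p : ℕ} (hp : p.Prime) {g : G} (hg : g ^ p = 1)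
    (F : Finset X) (hF : ∀ t ∈ F, g • t ∈ F) (hc : F.card < p) {t : X} (ht : t ∈ F) : g • t = t := by
  by_contra hne
  have hpow : ∀ i : ℕ, g ^ i • t ∈ F := by
    intro i
    induction i with
    | zero => simpa using ht
    | succ i ih =>
      rw [pow_succ', mul_smul]
      exact hF _ ih
  have h1 : (Finset.range p).card ≤ F.card := by
    refine Finset.card_le_card_of_injOn (fun i => g ^ i • t) (fun i _ => hpow i) ?_
    intro i hi j hj hij
    exact pow_inj hp hg hne i (Finset.mem_range.mp hi) j (Finset.mem_range.mp hj) hij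
  rw [Finset.card_range] at h1
  omega

/-- points of the orbit moved by `g`, counted through the cosets -/
theorem card_moved {b : Ω} {W : Subgroup G} [Fintype (G ⧸ W)] [DecidableEq (G ⧸ W)] (hW : stabilizer G b ≤ W) {p : ℕ}
    (hp : p.Prime) {g : G} (hg : g ^ p = 1) (hw : ∀ β : G ⧸ W, (fib b W β).card < p) (β₀ : G ⧸ W) :
    ((ob G b).filter (fun c => g • c ≠ c)).card =
      (fib b W β₀).card * (Finset.univ.filter (fun β : G ⧸ W => g • β ≠ β)).card := by
  have hmaps : ∀ c ∈ (ob G b).filter (fun c => g • c ≠ c),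
      bl b W c ∈ Finset.univ.filter (fun β : G ⧸ W => g • β ≠ β) := by
    intro c hc
    rw [Finset.mem_filter] at hc
    rw [Finset.mem_filter]
    refine ⟨Finset.mem_univ _, fun hfix => hc.2 ?_⟩
    refine fix_of_card_lt hp hg (fib b W (bl b W c)) ?_ (hw _) (mem_fib.mpr ⟨hc.1, rfl⟩)
    intro t ht
    have := smul_mem_fib hW g ht
    rwa [hfix] at this
  rw [Finset.card_eq_sum_card_fiberwise hmaps, Finset.sum_const_nat (m := (fib b W β₀).card), mul_comm]
  intro β hβ
  rw [Finset.mem_filter] at hβ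
  rw [← card_fib hW β β₀]
  congr 1
  ext c
  rw [Finset.mem_filter, Finset.mem_filter, mem_fib]
  constructor
  · rintro ⟨⟨h1, -⟩, h3⟩
    exact ⟨h1, h3⟩
  · rintro ⟨h1, h3⟩
    refine ⟨⟨h1, fun hfix => hβ.2 ?_⟩, h3⟩
    rw [← h3, ← bl_equiv' hW g (mem_ob.mp h1), hfix]

/-- points of the orbit fixed by `g`, counted through the cosets -/
theorem card_fixed {b : Ω} {W : Subgroup G} [Fintype (G ⧸ W)] [DecidableEq (G ⧸ W)] (hW : stabilizer G b ≤ W) {p : ℕ}
    (hp : p.Prime) {g : G} (hg : g ^ p = 1) (hw : ∀ β : G ⧸ W, (fib b W β).card < p) (β₀ : G ⧸ W) :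
    ((ob G b).filter (fun c => g • c = c)).card =
      (fib b W β₀).card * (Finset.univ.filter (fun β : G ⧸ W => g • β = β)).card := by
  have hmaps : ∀ c ∈ (ob G b).filter (fun c => g • c = c),
      bl b W c ∈ Finset.univ.filter (fun β : G ⧸ W => g • β = β) := by
    intro c hc
    rw [Finset.mem_filter] at hc
    rw [Finset.mem_filter]
    refine ⟨Finset.mem_univ _, ?_⟩
    rw [← bl_equiv' hW g (mem_ob.mp hc.1), hc.2]
  rw [Finset.card_eq_sum_card_fiberwise hmaps, Finset.sum_const_nat (m := (fib b W β₀).card), mul_comm]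
  intro β hβ
  rw [Finset.mem_filter] at hβ
  rw [← card_fib hW β β₀]
  congr 1
  ext c
  rw [Finset.mem_filter, Finset.mem_filter, mem_fib]
  constructor
  · rintro ⟨⟨h1, -⟩, h3⟩
    exact ⟨h1, h3⟩
  · rintro ⟨h1, h3⟩
    refine ⟨⟨h1, ?_⟩, h3⟩
    refine fix_of_card_lt hp hg (fib b W β) ?_ (hw _) (mem_fib.mpr ⟨h1, h3⟩)
    intro t ht
    have := smul_mem_fib hW g ht
    rwa [hβ.2] at this

/-- the fibres are small if `g` moves few points and moves a coset -/
theorem card_fib_lt {b : Ω} {W : Subgroup G} (hW : stabilizer G b ≤ W) {p q : ℕ} (hp : p.Prime) {g : G} (hg : g ^ p = 1)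
    {β : G ⧸ W} (hβ : g • β ≠ β) (hmv : ((ob G b).filter (fun c => g • c ≠ c)).card ≤ q * p) (γ : G ⧸ W) :
    (fib b W γ).card ≤ q := by
  have h1 : ((Finset.range p).sigma (fun i => fib b W (g ^ i • β))).card ≤
      ((ob G b).filter (fun c => g • c ≠ c)).card := by
    refine Finset.card_le_card_of_injOn (fun s => s.2) ?_ ?_
    · rintro ⟨i, c⟩ hs
      rw [Finset.mem_coe, Finset.mem_sigma] at hs
      rw [Finset.mem_coe, Finset.mem_filter]
      have hc := mem_fib.mp hs.2
      refine ⟨hc.1, fun hfix => hβ ?_⟩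
      have h2 : g • (g ^ i • β) = g ^ i • β := by
        rw [← hc.2, ← bl_equiv' hW g (mem_ob.mp hc.1)]
        exact congrArg _ hfix
      rw [← mul_smul, ← pow_succ', pow_succ, mul_smul] at h2
      exact smul_left_cancel _ h2
    · rintro ⟨i, c⟩ hi ⟨j, d⟩ hj hcd
      rw [Finset.mem_coe, Finset.mem_sigma] at hi hj
      change c = d at hcd
      subst hcd
      have h3 : g ^ i • β = g ^ j • β := by
        rw [← (mem_fib.mp hi.2).2, ← (mem_fib.mp hj.2).2]
      have h4 := pow_inj hp hg hβ i (Finset.mem_range.mp hi.1) j (Finset.mem_range.mp hj.1) h3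
      subst h4
      rfl
  rw [Finset.card_sigma, Finset.sum_const_nat (m := (fib b W γ).card) (fun i _ => card_fib hW _ _),
    Finset.card_range] at h1
  have h5 : p * (fib b W γ).card ≤ p * q := by
    calc p * (fib b W γ).card ≤ _ := h1
      _ ≤ q * p := hmv
      _ = p * q := mul_comm q p
  exact Nat.le_of_mul_le_mul_left h5 hp.pos

end

end Cfsg.Agent.H411.PrA.Blk
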