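import Cfsg.Agent.H411.PrA.Basic
import Cfsg.Agent.H411.PrA.Blk
import Cfsg.Agent.S0713

/-!
# S3618, part A: the type of an orbit of `M_a`
-/

set_option autoImplicit false
set_option linter.unusedSectionVars false

open Equiv Equiv.Perm MulAction
open Cfsg.Agent.H411.PrA.Blk

namespace Cfsg.Agent.H411.PrA.Orb

universe u v

section gen

/-- the support of a permutation of prime order -/
theorem dvd_support {B : Type u} [Fintype B] [DecidableEq B] {p : ℕ} (hp : p.Prime) {x : Perm B} (hxp : orderOf x = p) :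
    p ∣ x.support.card := by
  have h1 : ∀ n ∈ x.cycleType, n = p := by
    intro n hn
    have h2 : n ∣ orderOf x := Equiv.Perm.dvd_of_mem_cycleType hn
    rw [hxp] at h2
    rcases (Nat.dvd_prime hp).mp h2 with h3 | h3
    · have := Equiv.Perm.two_le_of_mem_cycleType hn
      omega
    · exact h3
  rw [← Equiv.Perm.sum_cycleType]
  exact Multiset.dvd_sum fun n hn => (h1 n hn) ▸ dvd_rfl

theorem sq_dvd_card_of_alt {Ω : Type u} [Fintype Ω] [DecidableEq Ω] {p : ℕ} (hp : p.Prime) (hp2 : p ≠ 2)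
    {K : Subgroup (Perm Ω)} (hA : alternatingGroup Ω ≤ K) (hn : 2 * p ≤ Fintype.card Ω) : p ^ 2 ∣ Nat.card K := by
  have h1 : p ^ 2 ∣ (Fintype.card Ω).factorial := by
    have h3 : p ∣ p.factorial := Nat.dvd_factorial hp.pos le_rfl
    have h4 : p.factorial * p.factorial ∣ (p + p).factorial := Nat.factorial_mul_factorial_dvd_factorial_add p p
    have h5 : (p + p).factorial ∣ (Fintype.card Ω).factorial := Nat.factorial_dvd_factorial (by omega)
    rw [pow_two]
    exact ((mul_dvd_mul h3 h3).trans h4).trans h5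
  have hne : Nontrivial Ω := by
    rw [← Fintype.one_lt_card_iff_nontrivial]
    have := hp.two_le
    omega
  have h2 : 2 * Nat.card (alternatingGroup Ω) = (Fintype.card Ω).factorial := by
    rw [two_mul_nat_card_alternatingGroup, Nat.card_perm, Nat.card_eq_fintype_card]
  have h3 : p ^ 2 ∣ Nat.card (alternatingGroup Ω) := by
    rw [← h2] at h1
    refine Nat.Coprime.dvd_of_dvd_mul_left ?_ h1
    exact Nat.Coprime.pow_left 2 ((Nat.coprime_primes hp Nat.prime_two).mpr hp2)
  exact h3.trans (Subgroup.card_dvd_of_le hA)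

end gen

variable {Ω : Type u} [Fintype Ω] [DecidableEq Ω] {p q : ℕ} {K : Subgroup (Perm Ω)}

/-- homomorphisms of `M_a` to a group of order two are trivial -/
theorem hom_trivial (hp2 : Odd p) (a : Ω) (χ : M p K a →* ℤˣ) : χ = 1 := by
  have hcl : Subgroup.closure (((↑) : M p K a → Perm Ω) ⁻¹' {x | x ∈ K ∧ orderOf x = p ∧ x a = a}) = ⊤ :=
    Subgroup.closure_closure_coe_preimage
  refine MonoidHom.eq_of_eqOn_dense hcl ?_
  intro y hy
  have h1 : orderOf y = p := by
    have := hy.2.1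
    rwa [Subgroup.orderOf_coe] at this
  have h0 : y ^ p = 1 := orderOf_dvd_iff_pow_eq_one.mp (by rw [h1])
  have h2 : (χ y) ^ p = 1 := by rw [← map_pow, h0, map_one]
  rcases Int.units_eq_one_or (χ y) with h | h
  · rw [h]; rfl
  · rw [h, hp2.neg_one_pow] at h2
    exact absurd h2 (by decide)

/-- if `x` of order `p` in `M_a` acts trivially on `B` then so does `M_a` -/
theorem act_trivial (h : Setup p q K) (a : Ω) {B : Type v} [MulAction (M p K a) B] (g : M p K a) (hg : orderOf g = p)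
    (htriv : ∀ β : B, g • β = β) (m : M p K a) (β : B) : m • β = β := by
  have hker : ∀ y : M p K a, y ∈ (MulAction.toPermHom (M p K a) B).ker ↔ ∀ β : B, y • β = β := by
    intro y
    rw [MonoidHom.mem_ker]
    constructor
    · intro hy β
      have := congrArg (fun σ : Perm B => σ β) hy
      exact this
    · intro hy
      ext β
      exact hy β
  have hg1 : g ∈ (MulAction.toPermHom (M p K a) B).ker := (hker g).mpr htriv
  have hcl : Subgroup.closure (((↑) : M p K a → Perm Ω) ⁻¹' {x | x ∈ K ∧ orderOf x = p ∧ x a = a}) = ⊤ :=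
    Subgroup.closure_closure_coe_preimage
  have htop : (MulAction.toPermHom (M p K a) B).ker = ⊤ := by
    rw [eq_top_iff, ← hcl, Subgroup.closure_le]
    intro y hy
    have h1 : orderOf (y : Perm Ω) = p := hy.2.1
    obtain ⟨k, hk, hkz⟩ := h.conj (M p K a) (M_le a) y g y.2 g.2 h1 (by rw [Subgroup.orderOf_coe, hg])
    obtain ⟨n, hn⟩ := Subgroup.mem_zpowers_iff.mp hkz
    have h2 : g ^ n = (⟨k, hk⟩ : M p K a) * y * (⟨k, hk⟩ : M p K a)⁻¹ := by
      apply Subtype.ext
      simpa using hn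
    have h3 : (⟨k, hk⟩ : M p K a) * y * (⟨k, hk⟩ : M p K a)⁻¹ ∈ (MulAction.toPermHom (M p K a) B).ker := by
      rw [← h2]
      exact Subgroup.zpow_mem _ hg1 n
    have h4 := (inferInstance : (MulAction.toPermHom (M p K a) B).ker.Normal).conj_mem _ h3 (⟨k, hk⟩ : M p K a)⁻¹
    have h5 : (⟨k, hk⟩ : M p K a)⁻¹ * ((⟨k, hk⟩ : M p K a) * y * (⟨k, hk⟩ : M p K a)⁻¹) * (⟨k, hk⟩ : M p K a)⁻¹⁻¹ = y := by
      group
    rw [h5] at h4
    exact h4
  have : m ∈ (MulAction.toPermHom (M p K a) B).ker := by rw [htop]; trivial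
  exact (hker m).mp this β

/-- a point in a block fixed by everything is not bad -/
theorem not_bad (h : Setup p q K) {a b : Ω} {W : Subgroup (M p K a)} (hW : stabilizer (M p K a) b ≤ W) (hWt : W ≠ ⊤)
    {m : ℕ} (φ : M p K a →* alternatingGroup (Fin m))
    (hφ : ∀ y z : M p K a, φ y = φ z → ∀ β : (M p K a) ⧸ W, y • β = z • β) {c : Ω} (hc : c ∈ ob (M p K a) b) :
    ¬ Bad φ c := by
  intro hbad
  apply hWt
  have h1 : ∀ y : M p K a, y • bl b W c = bl b W c := by
    intro y
    obtain ⟨z, hz, hzy⟩ := hbad (φ y)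
    rw [← hφ z y hzy, ← bl_equiv' hW z (mem_ob.mp hc)]
    exact congrArg _ hz
  obtain ⟨m', hm'⟩ := QuotientGroup.mk_surjective (bl b W c)
  rw [eq_top_iff]
  intro y _
  have h2 := h1 (m' * y * m'⁻¹)
  rw [← hm'] at h2
  have h3 : ((m' * y * m'⁻¹ * m' : M p K a) : (M p K a) ⧸ W) = (m' : (M p K a) ⧸ W) := h2
  rw [inv_mul_cancel_right, eq_comm, QuotientGroup.eq, inv_mul_cancel_left] at h3
  exact h3

theorem orb_eq_ob (a b : Ω) : orb p K a b = ob (M p K a) b := by
  ext c
  rw [mem_ob]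
  unfold orb
  simp only [Finset.mem_filter, Finset.mem_univ, true_and]
  constructor
  · rintro ⟨m, hm, rfl⟩
    exact ⟨⟨m, hm⟩, rfl⟩
  · rintro ⟨m, rfl⟩
    exact ⟨m, m.2, rfl⟩

/-- arithmetic of the pairs action -/
theorem arith_pairs {p u k s : ℕ} (h1 : 2 * k + p + 1 = 2 * (p + u)) (h2 : k < p) (h3 : k * p + s = (p + u).choose 2)
    (h4 : 5 * k < 2 * (s + 1)) (h5 : 2 ≤ k) : 5 ≤ u ∧ u < p ∧ 1 ≤ s := by
  have hk : u ≤ k := by omega
  obtain ⟨r, rfl⟩ := Nat.exists_eq_add_of_le hk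
  obtain rfl : p = 2 * r + 1 := by omega
  have h6 : (2 * r + 1 + u) * (2 * r + u) = 2 * (2 * r + 1 + u).choose 2 := by
    have h7 := Nat.choose_two_right (2 * r + 1 + u)
    rw [h7, Nat.mul_div_cancel' (Nat.even_mul_pred_self _).two_dvd]
    congr 1
    omega
  rw [← h3] at h6
  have h8 : 2 * s + u = u * u := by nlinarith
  have hur : u ≤ r := by omega
  refine ⟨?_, by omega, by omega⟩
  by_contra hlt
  have hu4 : u ≤ 4 := by omega
  interval_cases u <;> omega

end Cfsg.Agent.H411.PrA.Orb
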